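import Mathlib
import Cfsg.Agent.LieClassical.OrthFinite
import Cfsg.Agent.H50.RG.LStmts

/-!
# S5714, RG-L07: Witt's theorem for frames of totally singular subspaces, elements of `E Q` (helper245)
-/

set_option autoImplicit false

namespace Cfsg.Agent.H245.RG

open QuadraticMap Module
open Cfsg.Agent.LieClassical.OrthCore Cfsg.Agent.LieClassical.OrthTrans Cfsg.Agent.LieClassical.OrthFinite

universe u v

section

variable {F : Type u} [Field F] {V : Type v} [AddCommGroup V] [Module F V] {Q : QuadraticForm F V}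

theorem exists_polar_eq_of_li (hQ : Nondeg Q) {n : ℕ} {b : Fin n → V} (hb : LinearIndependent F b) (c : Fin n → F) :
    ∃ v, ∀ i, polar Q (b i) v = c i := by
  classical
  let φ : V →ₗ[F] (Fin n → F) := LinearMap.pi fun i => polarBilin Q (b i)
  have hφ : ∀ v i, φ v i = polar Q (b i) v := fun _ _ => rfl
  suffices h : LinearMap.range φ = ⊤ by
    obtain ⟨v, hv⟩ := (LinearMap.range_eq_top.1 h) c
    exact ⟨v, fun i => by rw [← hφ, hv]⟩
  by_contra hne
  obtain ⟨f, hf, hle⟩ := Submodule.exists_le_ker_of_lt_top _ (lt_top_iff_ne_top.2 hne)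
  have hsum : ∀ w : Fin n → F, f w = ∑ i, f (Pi.single i 1) * w i := by
    intro w
    conv_lhs => rw [← Finset.univ_sum_single w, map_sum]
    refine Finset.sum_congr rfl fun i _ => ?_
    have e : (Pi.single i (w i) : Fin n → F) = w i • Pi.single i 1 := by
      rw [← Pi.single_smul, smul_eq_mul, mul_one]
    rw [e, map_smul, smul_eq_mul, mul_comm]
  have h0 : ∑ i, f (Pi.single i 1) • b i = 0 := by
    apply hQ
    intro y
    have h1 : f (φ y) = 0 := hle ⟨y, rfl⟩
    rw [hsum] at h1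
    have h2 : polar Q (∑ i, f (Pi.single i 1) • b i) y = ∑ i, f (Pi.single i 1) * polar Q (b i) y := by
      show polarBilin Q (∑ i, f (Pi.single i 1) • b i) y = _
      rw [map_sum, LinearMap.sum_apply]
      refine Finset.sum_congr rfl fun i _ => ?_
      rw [map_smul, LinearMap.smul_apply, smul_eq_mul]
      rfl
    rw [h2]
    exact h1
  have h3 := Fintype.linearIndependent_iff.1 hb _ h0
  apply hf
  ext w
  rw [LinearMap.comp_apply]
  simp [h3]

/-- a partner of the first vector of a totally singular frame, orthogonal to the others -/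
theorem exists_partner (hQ : Nondeg Q) {k : ℕ} {b : Fin (k + 1) → V} (hb : LinearIndependent F b)
    (hs : ∀ i, Q (b i) = 0) (ho : ∀ i j, polar Q (b i) (b j) = 0) :
    ∃ y, Hyp Q (b 0) y ∧ ∀ i : Fin k, polar Q y (b i.succ) = 0 := by
  obtain ⟨v, hv⟩ := exists_polar_eq_of_li hQ hb (Pi.single 0 1)
  have hv0 : polar Q (b 0) v = 1 := by rw [hv, Pi.single_eq_same]
  have hvs : ∀ i : Fin k, polar Q (b i.succ) v = 0 := fun i => by
    rw [hv, Pi.single_eq_of_ne (Fin.succ_ne_zero i)]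
  refine ⟨v + (-Q v) • b 0, ⟨hs 0, ?_, ?_⟩, fun i => ?_⟩
  · rw [Q_add, QuadraticMap.map_smul, hs, polar_smul_right, polar_comm Q v, hv0]
    simp
  · rw [polar_add_right, polar_smul_right, polar_self_of_sing (hs 0), hv0]
    simp
  · rw [polar_add_left, polar_smul_left, ho, polar_comm Q v, hvs]
    simp

/-- elements of `E` of a subspace extend -/
theorem exists_extension (U : Submodule F V) {g : U ≃ₗ[F] U} (hg : g ∈ E (Q.comp U.subtype)) :
    ∃ g' ∈ E Q, (∀ u : U, g' u = g u) ∧ ∀ z, (∀ u ∈ U, polar Q u z = 0) → g' z = z := by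
  have hp : ∀ a b : U, polar (Q.comp U.subtype) a b = polar Q (a : V) (b : V) := fun _ _ => rfl
  rw [E] at hg
  induction hg using Subgroup.closure_induction with
  | mem x hx =>
    obtain ⟨u, w, hu, hw, rfl⟩ := hx
    have hu' : Q (u : V) = 0 := hu
    have hw' : polar Q (u : V) (w : V) = 0 := hw
    refine ⟨siegel Q u w hu' hw', siegel_mem_E _ _, fun z => ?_, fun z hz => ?_⟩
    · rw [siegel_apply, siegel_apply]
      rfl
    · rw [siegel_apply, hz u u.2, hz w w.2]
      simp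
  | one => exact ⟨1, one_mem _, fun _ => rfl, fun _ _ => rfl⟩
  | mul x y _ _ hx hy =>
    obtain ⟨a, ha, ha1, ha2⟩ := hx
    obtain ⟨b, hb, hb1, hb2⟩ := hy
    refine ⟨a * b, mul_mem ha hb, fun u => ?_, fun z hz => ?_⟩
    · show a (b u) = ((x (y u) : U) : V)
      rw [hb1, ha1]
    · show a (b z) = z
      rw [hb2 z hz, ha2 z hz]
  | inv x _ hx =>
    obtain ⟨a, ha, ha1, ha2⟩ := hx
    refine ⟨a⁻¹, inv_mem ha, fun u => ?_, fun z hz => ?_⟩
    · show a.symm u = ((x.symm u : U) : V)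
      rw [LinearEquiv.symm_apply_eq, ha1, LinearEquiv.apply_symm_apply]
    · show a.symm z = z
      rw [LinearEquiv.symm_apply_eq, ha2 z hz]

/-- the orthogonal complement of a pair -/
def perp2 (Q : QuadraticForm F V) (x y : V) : Submodule F V := LinearMap.ker ((polarBilin Q x).prod (polarBilin Q y))

theorem mem_perp2 {x y u : V} : u ∈ perp2 Q x y ↔ polar Q x u = 0 ∧ polar Q y u = 0 := by
  rw [perp2, LinearMap.mem_ker, LinearMap.prod_apply, Prod.ext_iff]
  rfl

theorem finrank_perp2 [FiniteDimensional F V] (x y : V) : finrank F V ≤ finrank F (perp2 Q x y) + 2 := by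
  have h1 := LinearMap.finrank_range_add_finrank_ker ((polarBilin Q x).prod (polarBilin Q y))
  have h2 : finrank F (LinearMap.range ((polarBilin Q x).prod (polarBilin Q y))) ≤ finrank F (F × F) :=
    Submodule.finrank_le _
  rw [Module.finrank_prod, Module.finrank_self] at h2
  rw [perp2]
  omega

theorem nondeg_perp2 (hQ : Nondeg Q) {x y : V} (h : Hyp Q x y) : Nondeg (Q.comp (perp2 Q x y).subtype) := by
  intro u hu
  obtain ⟨h1, h2⟩ := mem_perp2.1 u.2
  apply Subtype.ext
  apply hQ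
  intro v
  rw [← polar_proj_of_perp h1 h2 v]
  exact hu ⟨proj Q x y v, mem_perp2.2 ⟨polar_proj_left h v, polar_proj_right h v⟩⟩

end

theorem witt_frames {F : Type u} [Field F] [Finite F] (k : ℕ) : ∀ (V : Type v) [AddCommGroup V] [Module F V]
    [Module.Finite F V] (Q : QuadraticForm F V), Nondeg Q → 2 * k + 3 ≤ finrank F V → ∀ b b' : Fin k → V,
    LinearIndependent F b → LinearIndependent F b' → (∀ i, Q (b i) = 0) → (∀ i, Q (b' i) = 0) →
    (∀ i j, polar Q (b i) (b j) = 0) → (∀ i j, polar Q (b' i) (b' j) = 0) → ∃ g ∈ E Q, ∀ i, g (b i) = b' i := by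
  induction k with
  | zero =>
    intro V _ _ _ Q _ _ b b' _ _ _ _ _ _
    exact ⟨1, one_mem _, fun i => i.elim0⟩
  | succ k ih =>
    intro V _ _ _ Q hQ hn b b' hb hb' hs hs' ho ho'
    have hG : Good Q := good_of_finite hQ (by omega)
    obtain ⟨g₁, hg₁, h₁⟩ := hG.trans_sing (hs 0) (hs' 0) (hb.ne_zero 0) (hb'.ne_zero 0)
    have hO₁ := E_le_O hg₁
    -- the partners
    obtain ⟨y₁, hy₁, hy₁'⟩ := exists_partner hQ (b := fun i => g₁ (b i))
      (hb.map' (g₁ : V →ₗ[F] V) (LinearMap.ker_eq_bot.2 g₁.injective))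
      (fun i => by rw [mem_O.1 hO₁, hs]) (fun i j => by rw [polar_map hO₁, ho])
    obtain ⟨y₂, hy₂, hy₂'⟩ := exists_partner hQ hb' hs' ho'
    simp only [h₁] at hy₁
    obtain ⟨g₂, hg₂, h₂, h₂'⟩ := siegel_partner hy₁ hy₂
    have hO₂ := E_le_O hg₂
    -- the complement
    have hmem : ∀ i : Fin k, g₂ (g₁ (b i.succ)) ∈ perp2 Q (b' 0) y₂ := fun i => by
      rw [mem_perp2]
      constructor
      · nth_rewrite 1 [← h₂]
        rw [polar_map hO₂]
        nth_rewrite 1 [← h₁]
        rw [polar_map hO₁, ho]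
      · rw [← h₂', polar_map hO₂]
        exact hy₁' i
    have hmem' : ∀ i : Fin k, b' i.succ ∈ perp2 Q (b' 0) y₂ := fun i => mem_perp2.2 ⟨ho' _ _, hy₂' i⟩
    have hfr := finrank_perp2 (Q := Q) (b' 0) y₂
    have hli : LinearIndependent F fun i : Fin k => (⟨g₂ (g₁ (b i.succ)), hmem i⟩ : perp2 Q (b' 0) y₂) := by
      apply LinearIndependent.of_comp (perp2 Q (b' 0) y₂).subtype
      have h3 : LinearIndependent F fun i : Fin k => b i.succ := hb.comp _ (Fin.succ_injective k)
      exact (h3.map' (g₁ : V →ₗ[F] V) (LinearMap.ker_eq_bot.2 g₁.injective)).map' (g₂ : V →ₗ[F] V)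
        (LinearMap.ker_eq_bot.2 g₂.injective)
    have hli' : LinearIndependent F fun i : Fin k => (⟨b' i.succ, hmem' i⟩ : perp2 Q (b' 0) y₂) := by
      apply LinearIndependent.of_comp (perp2 Q (b' 0) y₂).subtype
      exact hb'.comp _ (Fin.succ_injective k)
    obtain ⟨g₃, hg₃, h₃⟩ := ih (perp2 Q (b' 0) y₂) (Q.comp (perp2 Q (b' 0) y₂).subtype) (nondeg_perp2 hQ hy₂) (by omega)
      _ _ hli hli'
      (fun i => by
        show Q (g₂ (g₁ (b i.succ))) = 0
        rw [mem_O.1 hO₂, mem_O.1 hO₁, hs])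
      (fun i => hs' _)
      (fun i j => by
        show polar Q (g₂ (g₁ (b i.succ))) (g₂ (g₁ (b j.succ))) = 0
        rw [polar_map hO₂, polar_map hO₁, ho])
      (fun i j => ho' _ _)
    obtain ⟨g, hg, hgu, hgz⟩ := exists_extension _ hg₃
    refine ⟨g * g₂ * g₁, mul_mem (mul_mem hg hg₂) hg₁, fun i => ?_⟩
    show g (g₂ (g₁ (b i))) = b' i
    refine Fin.cases ?_ (fun i => ?_) i
    · rw [h₁, h₂]
      refine hgz _ fun u hu => ?_
      rw [polar_comm]
      exact (mem_perp2.1 hu).1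
    · have h4 := hgu ⟨g₂ (g₁ (b i.succ)), hmem i⟩
      rw [h₃ i] at h4
      exact h4

open Cfsg.Agent.H847.Bs in
theorem rg_l07 : Cfsg.Agent.H50.RG.L07 := by
  intro F V _ _ _ _ _ Q hQ k₀ hk₀ k hk b b' hb hb' hT hT'
  have hQ' : Nondeg Q := hQ
  have hm : ∀ (c : Fin k → V) (i : Fin k), c i ∈ Submodule.span F (Set.range c) :=
    fun c i => Submodule.subset_span ⟨i, rfl⟩
  exact witt_frames k V Q hQ' (by omega) b b' hb hb' (fun i => hT.2 _ (hm b i)) (fun i => hT'.2 _ (hm b' i))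
    (fun i j => hT.1 _ (hm b i) _ (hm b j)) (fun i j => hT'.1 _ (hm b' i) _ (hm b' j))

end Cfsg.Agent.H245.RG
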